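import Mathlib

/-!
# Eigenspace bounds for elements normalising a group of symplectic type (definitions)

Abstract setting for S5877: `V` a vector space over a field `F`, `Γ` a subgroup of the units of
`Module.End F V` that contains the scalars, whose elements commute up to powers of a primitive
`r`-th root of unity `ω`, and whose commutant consists of scalars.
-/

set_option autoImplicit false

namespace Cfsg.Agent.Helper43.EB

open Module

variable {F : Type*} [Field F] {V : Type*} [AddCommGroup V] [Module F V]

/-- the scalar unit `c • 1` of `End V` -/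
noncomputable def sc (c : Fˣ) : (Module.End F V)ˣ :=
  Units.map (algebraMap F (Module.End F V)).toMonoidHom c

@[simp] theorem sc_apply (c : Fˣ) (v : V) : ((sc c : (Module.End F V)ˣ) : Module.End F V) v = (c : F) • v := by
  simp [sc, Module.algebraMap_end_apply]

theorem sc_val (c : Fˣ) : ((sc c : (Module.End F V)ˣ) : Module.End F V) = (c : F) • (1 : Module.End F V) := by
  ext v; simp

/-- an endomorphism is scalar -/
def IsScalar (M : Module.End F V) : Prop := ∃ c : F, M = c • (1 : Module.End F V)

/-- `Γ` is of symplectic type for the prime `r` and the root of unity `ω`. -/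
structure SympType (r : ℕ) (ω : F) (Γ : Subgroup (Module.End F V)ˣ) : Prop where
  scalar_mem : ∀ c : Fˣ, (sc c : (Module.End F V)ˣ) ∈ Γ
  comm : ∀ a ∈ Γ, ∀ b ∈ Γ, ∃ k : ℕ,
    ((a : Module.End F V) * (b : Module.End F V)) = ω ^ k • ((b : Module.End F V) * (a : Module.End F V))
  schur : ∀ M : Module.End F V,
    (∀ a ∈ Γ, M * (a : Module.End F V) = (a : Module.End F V) * M) → IsScalar M

/-- every element of `Γ` is a scalar multiple of an element of order dividing `r` -/
def HasPow (r : ℕ) (Γ : Subgroup (Module.End F V)ˣ) : Prop :=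
  ∀ a ∈ Γ, ∃ c : Fˣ, ((sc c : (Module.End F V)ˣ) * a) ^ r = 1

/-- the restriction of a unit of `End V` to a submodule stable under it and its inverse -/
noncomputable def resUnit (E : Submodule F V) (a : (Module.End F V)ˣ)
    (h1 : ∀ x ∈ E, (a : Module.End F V) x ∈ E)
    (h2 : ∀ x ∈ E, ((a⁻¹ : (Module.End F V)ˣ) : Module.End F V) x ∈ E) : (Module.End F E)ˣ where
  val := (a : Module.End F V).restrict h1
  inv := ((a⁻¹ : (Module.End F V)ˣ) : Module.End F V).restrict h2
  val_inv := by
    ext x
    have h : ((a : Module.End F V) * ((a⁻¹ : (Module.End F V)ˣ) : Module.End F V)) (x : V) = x := by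
      rw [← Units.val_mul, mul_inv_cancel]; rfl
    exact h
  inv_val := by
    ext x
    have h : (((a⁻¹ : (Module.End F V)ˣ) : Module.End F V) * (a : Module.End F V)) (x : V) = x := by
      rw [← Units.val_mul, inv_mul_cancel]; rfl
    exact h

@[simp] theorem resUnit_apply (E : Submodule F V) (a : (Module.End F V)ˣ) (h1 h2) (x : E) :
    ((((resUnit E a h1 h2 : (Module.End F E)ˣ) : Module.End F E) x : E) : V) = (a : Module.End F V) (x : V) := rfl

/-- the group induced on a submodule `E` by the elements of `Γ` stabilising `E` -/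
def resGroup (Γ : Subgroup (Module.End F V)ˣ) (E : Submodule F V) : Subgroup (Module.End F E)ˣ where
  carrier := {u | ∃ a ∈ Γ, ∀ x : E, (((u : Module.End F E) x : E) : V) = (a : Module.End F V) (x : V)}
  one_mem' := ⟨1, Γ.one_mem, fun x => rfl⟩
  mul_mem' := by
    rintro u v ⟨a, ha, hua⟩ ⟨b, hb, hvb⟩
    refine ⟨a * b, Γ.mul_mem ha hb, fun x => ?_⟩
    rw [Units.val_mul, Module.End.mul_apply, hua, hvb, Units.val_mul, Module.End.mul_apply]
  inv_mem' := by
    rintro u ⟨a, ha, hua⟩
    refine ⟨a⁻¹, Γ.inv_mem ha, fun x => ?_⟩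
    have h1 : (((u : Module.End F E) (((u⁻¹ : (Module.End F E)ˣ) : Module.End F E) x) : E) : V) = (x : V) := by
      have : ((u : Module.End F E) * ((u⁻¹ : (Module.End F E)ˣ) : Module.End F E)) x = x := by
        rw [← Units.val_mul, mul_inv_cancel]; rfl
      exact congrArg Subtype.val this
    rw [hua] at h1
    have h2 : (((a⁻¹ : (Module.End F V)ˣ) : Module.End F V) * (a : Module.End F V))
        ((((u⁻¹ : (Module.End F E)ˣ) : Module.End F E) x : E) : V)
        = ((((u⁻¹ : (Module.End F E)ˣ) : Module.End F E) x : E) : V) := by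
      rw [← Units.val_mul, inv_mul_cancel]; rfl
    rw [Module.End.mul_apply, h1] at h2
    exact h2.symm

theorem mem_resGroup {Γ : Subgroup (Module.End F V)ˣ} {E : Submodule F V} {u : (Module.End F E)ˣ} :
    u ∈ resGroup Γ E ↔ ∃ a ∈ Γ, ∀ x : E, (((u : Module.End F E) x : E) : V) = (a : Module.End F V) (x : V) :=
  Iff.rfl

end Cfsg.Agent.Helper43.EB
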