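import Mathlib
import Cfsg.Agent.Helper43.EB.Defs
import Cfsg.Agent.Helper66.EBL1
import Cfsg.Agent.Helper48.EBL2
import Cfsg.Agent.Helper66.EBL3
import Cfsg.Agent.Helper48.EBL6
import Cfsg.Agent.Helper63.EBL7
import Cfsg.Agent.Helper14.EBL7b
import Cfsg.Agent.Helper93.EBL8b
import Cfsg.Agent.Helper14.EBL8c
import Cfsg.Agent.Helper72.EBCNT

/-! Leaves of S5877: the pieces proved by the team (one-line references). -/

set_option autoImplicit false

namespace Cfsg.Agent.Helper43.EB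

open Module

variable {F : Type*} [Field F] {V : Type*} [AddCommGroup V] [Module F V]

/-- (L1) an eigenspace of a non-scalar element of `Γ` has dimension at most `dim V / r` -/
theorem eig_le_of_nonscalar [FiniteDimensional F V] {r : ℕ} (hr : r.Prime) {ω : F}
    (hω : IsPrimitiveRoot ω r) {Γ : Subgroup (Module.End F V)ˣ} (hΓ : SympType r ω Γ)
    {a : (Module.End F V)ˣ} (ha : a ∈ Γ) (hns : ¬ IsScalar (a : Module.End F V)) (μ : F) :
    r * finrank F (Module.End.eigenspace (a : Module.End F V) μ) ≤ finrank F V :=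
  Cfsg.Agent.Helper66.EBL1.eig_le_of_nonscalar hr hω hΓ ha hns μ

/-- (L2a) two translates of a subspace of dimension `w` meet in dimension at least `2w - n` -/
theorem finrank_inter_translate [FiniteDimensional F V] (g x : (Module.End F V)ˣ) (c : F) :
    2 * finrank F (Module.End.eigenspace (g : Module.End F V) c) ≤ finrank F V +
      finrank F ↥(Module.End.eigenspace (g : Module.End F V) c ⊓
        (Module.End.eigenspace (g : Module.End F V) c).map (x : Module.End F V)) :=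
  Cfsg.Agent.Helper48.EBL2.finrank_inter_translate g x c

/-- (L2b) `x g^k x⁻¹ g^{-k}` fixes `W ∩ xW` pointwise, `W` an eigenspace of `g` -/
theorem fix_inter_translate (g x : (Module.End F V)ˣ) (c : F) (k : ℕ) {u : V}
    (hu : u ∈ Module.End.eigenspace (g : Module.End F V) c ⊓
      (Module.End.eigenspace (g : Module.End F V) c).map (x : Module.End F V)) :
    ((x * g ^ k * x⁻¹ * (g ^ k)⁻¹ : (Module.End F V)ˣ) : Module.End F V) u = u :=
  Cfsg.Agent.Helper48.EBL2.fix_inter_translate g x c k hu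

/-- (L3) if `g` is not scalar but all commutators `[x, g]`, `x ∈ Γ`, are scalar, then every eigenspace
of `g` has dimension at most `dim V / r` -/
theorem caseA [FiniteDimensional F V] {r : ℕ} (hr : r.Prime) {ω : F}
    (hω : IsPrimitiveRoot ω r) {Γ : Subgroup (Module.End F V)ˣ} (hΓ : SympType r ω Γ)
    {g : (Module.End F V)ˣ} (hns : ¬ IsScalar (g : Module.End F V))
    (hall : ∀ x ∈ Γ, IsScalar ((x * g * x⁻¹ * g⁻¹ : (Module.End F V)ˣ) : Module.End F V)) (c : F) :
    r * finrank F (Module.End.eigenspace (g : Module.End F V) c) ≤ finrank F V :=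
  Cfsg.Agent.Helper66.EBL3.caseA hr hω hΓ hns hall c

/-- (L6) an automorphism of order dividing `r` of a group that is abelian of exponent `r` modulo a
central subgroup `Z` fixes a non-trivial element modulo `Z` -/
theorem exists_fixed_mod {G : Type*} [Group G] (Z : Subgroup G) {r : ℕ} (hr : r.Prime)
    (hZc : ∀ a ∈ Z, ∀ b : G, a * b = b * a) (hcomm : ∀ a b : G, a * b * a⁻¹ * b⁻¹ ∈ Z)
    (hpow : ∀ a : G, a ^ r ∈ Z) (φ : MulAut G) (hφZ : ∀ a : G, a ∈ Z ↔ φ a ∈ Z) (hφr : φ ^ r = 1)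
    (y : G) (hy : y ∉ Z) : ∃ z : G, z ∉ Z ∧ z * (φ z)⁻¹ ∈ Z :=
  Cfsg.Agent.Helper48.EBL6.exists_fixed_mod Z hr hZc hcomm hpow φ hφZ hφr y hy

/-- (L7) the group induced on an eigenspace of a non-scalar `z ∈ Γ` with `z ^ r = 1` is again of
symplectic type, and the eigenspace has dimension `dim V / r` -/
theorem sympType_res [FiniteDimensional F V] {r : ℕ} (hr : r.Prime) {ω : F}
    (hω : IsPrimitiveRoot ω r) {Γ : Subgroup (Module.End F V)ˣ} (hΓ : SympType r ω Γ)
    {z : (Module.End F V)ˣ} (hz : z ∈ Γ) (hzr : z ^ r = 1) (hzns : ¬ IsScalar (z : Module.End F V))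
    (j : ℕ) :
    SympType r ω (resGroup Γ (Module.End.eigenspace (z : Module.End F V) (ω ^ j))) ∧
      r * finrank F (Module.End.eigenspace (z : Module.End F V) (ω ^ j)) = finrank F V :=
  Cfsg.Agent.Helper63.EBL7.sympType_res hr hω hΓ hz hzr hzns j

/-- (L7b) -/
theorem hasPow_res {r : ℕ} {Γ : Subgroup (Module.End F V)ˣ} (h : HasPow r Γ) (E : Submodule F V) :
    HasPow r (resGroup Γ E) :=
  Cfsg.Agent.Helper14.EBL7b.hasPow_res h E

/-- (L8b) an eigenspace of `g` is the direct sum of its intersections with the eigenspaces of a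
commuting `z` with `z ^ r = 1` -/
theorem finrank_eq_sum [FiniteDimensional F V] {r : ℕ} (hr : r.Prime) {ω : F}
    (hω : IsPrimitiveRoot ω r) {z g : (Module.End F V)ˣ} (hzr : z ^ r = 1) (hzg : z * g = g * z)
    (c : F) :
    finrank F (Module.End.eigenspace (g : Module.End F V) c) =
      ∑ j ∈ Finset.range r, finrank F ↥(Module.End.eigenspace (g : Module.End F V) c ⊓
        Module.End.eigenspace (z : Module.End F V) (ω ^ j)) :=
  Cfsg.Agent.Helper93.EBL8b.finrank_eq_sum hr hω hzr hzg c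

/-- (L8c1) -/
theorem resUnit_mem_normalizer {Γ : Subgroup (Module.End F V)ˣ} {g : (Module.End F V)ˣ}
    (hg : g ∈ Subgroup.normalizer (Γ : Set (Module.End F V)ˣ)) (E : Submodule F V)
    (h1 : ∀ x ∈ E, (g : Module.End F V) x ∈ E)
    (h2 : ∀ x ∈ E, ((g⁻¹ : (Module.End F V)ˣ) : Module.End F V) x ∈ E) :
    resUnit E g h1 h2 ∈ Subgroup.normalizer ((resGroup Γ E : Subgroup (Module.End F E)ˣ) : Set (Module.End F E)ˣ) :=
  Cfsg.Agent.Helper14.EBL8c.resUnit_mem_normalizer hg E h1 h2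

/-- (L8c2) -/
theorem finrank_eigenspace_resUnit [FiniteDimensional F V] (g : (Module.End F V)ˣ) (E : Submodule F V)
    (h1 : ∀ x ∈ E, (g : Module.End F V) x ∈ E)
    (h2 : ∀ x ∈ E, ((g⁻¹ : (Module.End F V)ˣ) : Module.End F V) x ∈ E) (c : F) :
    finrank F (Module.End.eigenspace ((resUnit E g h1 h2 : (Module.End F E)ˣ) : Module.End F E) c) =
      finrank F ↥(Module.End.eigenspace (g : Module.End F V) c ⊓ E) :=
  Cfsg.Agent.Helper14.EBL8c.finrank_eigenspace_resUnit g E h1 h2 c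

/-- (L8c3) -/
theorem resUnit_pow (g : (Module.End F V)ˣ) (E : Submodule F V)
    (h1 : ∀ x ∈ E, (g : Module.End F V) x ∈ E)
    (h2 : ∀ x ∈ E, ((g⁻¹ : (Module.End F V)ˣ) : Module.End F V) x ∈ E) (k : ℕ) (hk : g ^ k = 1) :
    (resUnit E g h1 h2) ^ k = 1 :=
  Cfsg.Agent.Helper14.EBL8c.resUnit_pow g E h1 h2 k hk

/-- (L8c4) -/
theorem isScalar_resUnit_iff (g : (Module.End F V)ˣ) (E : Submodule F V)
    (h1 : ∀ x ∈ E, (g : Module.End F V) x ∈ E)
    (h2 : ∀ x ∈ E, ((g⁻¹ : (Module.End F V)ˣ) : Module.End F V) x ∈ E) :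
    IsScalar ((resUnit E g h1 h2 : (Module.End F E)ˣ) : Module.End F E) ↔
      ∃ a : F, ∀ v ∈ E, (g : Module.End F V) v = a • v :=
  Cfsg.Agent.Helper14.EBL8c.isScalar_resUnit_iff g E h1 h2

/-- (L8d) a unit commuting with `z` stabilises the eigenspaces of `z` -/
theorem stable_of_commute {z g : (Module.End F V)ˣ} (hzg : z * g = g * z) (μ : F) :
    (∀ x ∈ Module.End.eigenspace (z : Module.End F V) μ,
      (g : Module.End F V) x ∈ Module.End.eigenspace (z : Module.End F V) μ) ∧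
    (∀ x ∈ Module.End.eigenspace (z : Module.End F V) μ,
      ((g⁻¹ : (Module.End F V)ˣ) : Module.End F V) x ∈ Module.End.eigenspace (z : Module.End F V) μ) :=
  Cfsg.Agent.Helper14.EBL8c.stable_of_commute hzg μ

/-- (CNT) a sequence `a_j` with `a_{j+1} = a_j ν_j`, `ν_{j+1} = ω^e ν_j`, of period `r` and not constant
takes no value three times in a period -/
theorem no_three {r : ℕ} (hr : r.Prime) (hr2 : r ≠ 2) {ω : F} (hω : IsPrimitiveRoot ω r)
    (a ν : ℕ → F) (ha : ∀ j, a j ≠ 0) (hstep : ∀ j, a (j + 1) = a j * ν j) (e : ℕ)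
    (hν : ∀ j, ν (j + 1) = ω ^ e * ν j) (hper : ∀ j, a (j + r) = a j) (hnc : ∃ j, a j ≠ a 0)
    (c : F) (i j k : ℕ) (hij : i < j) (hjk : j < k) (hkr : k < r) (hi : a i = c) (hj : a j = c)
    (hk : a k = c) : False :=
  Cfsg.Agent.Helper72.EBCNT.no_three hr hr2 hω a ν ha hstep e hν hper hnc c i j k hij hjk hkr hi hj hk


end Cfsg.Agent.Helper43.EB
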