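import Mathlib
import Cfsg.Agent.Helper43.EB.Leaves

/-! The case of a scalar block (L8e) of S5877. -/

set_option autoImplicit false

namespace Cfsg.Agent.Helper43.EB

open Module

variable {F : Type*} [Field F] {V : Type*} [AddCommGroup V] [Module F V]

/-- `E z ω j` is the `ω^j`-eigenspace of `z` -/
abbrev Ej (z : (Module.End F V)ˣ) (ω : F) (j : ℕ) : Submodule F V :=
  Module.End.eigenspace (z : Module.End F V) (ω ^ j)

theorem mem_Ej {z : (Module.End F V)ˣ} {ω : F} {j : ℕ} {v : V} :
    v ∈ Ej z ω j ↔ (z : Module.End F V) v = ω ^ j • v := Module.End.mem_eigenspace_iff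

theorem unit_inv_apply (y : (Module.End F V)ˣ) (v : V) :
    ((y⁻¹ : (Module.End F V)ˣ) : Module.End F V) ((y : Module.End F V) v) = v := by
  have : (((y⁻¹ : (Module.End F V)ˣ) : Module.End F V) * (y : Module.End F V)) v = v := by
    rw [← Units.val_mul, inv_mul_cancel]; rfl
  exact this

theorem unit_apply_inv (y : (Module.End F V)ˣ) (v : V) :
    (y : Module.End F V) (((y⁻¹ : (Module.End F V)ˣ) : Module.End F V) v) = v := by
  have : ((y : Module.End F V) * ((y⁻¹ : (Module.End F V)ˣ) : Module.End F V)) v = v := by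
    rw [← Units.val_mul, mul_inv_cancel]; rfl
  exact this

/-- if `z y = ω^k y z` then `y` maps `E_j` into `E_{j+k}` -/
theorem map_Ej {z y : (Module.End F V)ˣ} {ω : F} {k : ℕ}
    (hzy : (z : Module.End F V) * (y : Module.End F V) = ω ^ k • ((y : Module.End F V) * (z : Module.End F V)))
    {j : ℕ} {v : V} (hv : v ∈ Ej z ω j) : (y : Module.End F V) v ∈ Ej z ω (j + k) := by
  rw [mem_Ej] at hv ⊢
  have h := congrArg (fun M : Module.End F V => M v) hzy
  simp only [Module.End.mul_apply, LinearMap.smul_apply] at h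
  rw [h, hv, map_smul, smul_smul, pow_add, mul_comm]

/-- if `z y = ω^k y z` then `y⁻¹` maps `E_{j+k}` into `E_j` -/
theorem map_inv_Ej {z y : (Module.End F V)ˣ} {ω : F} (hω0 : ω ≠ 0) {k : ℕ}
    (hzy : (z : Module.End F V) * (y : Module.End F V) = ω ^ k • ((y : Module.End F V) * (z : Module.End F V)))
    {j : ℕ} {v : V} (hv : v ∈ Ej z ω (j + k)) :
    ((y⁻¹ : (Module.End F V)ˣ) : Module.End F V) v ∈ Ej z ω j := by
  rw [mem_Ej] at hv ⊢
  set v' := ((y⁻¹ : (Module.End F V)ˣ) : Module.End F V) v with hv'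
  have hyv : (y : Module.End F V) v' = v := unit_apply_inv y v
  have h := congrArg (fun M : Module.End F V => M v') hzy
  simp only [Module.End.mul_apply, LinearMap.smul_apply] at h
  rw [hyv, hv] at h
  -- ω^(j+k) • v = ω^k • y (z v')
  have h2 : (y : Module.End F V) ((z : Module.End F V) v') = ω ^ j • v := by
    have hk : ω ^ k ≠ 0 := pow_ne_zero _ hω0
    have : ω ^ k • ((y : Module.End F V) ((z : Module.End F V) v')) = ω ^ k • (ω ^ j • v) := by
      rw [← h, smul_smul, pow_add, mul_comm]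
    exact smul_right_injective V hk this
  have h3 := congrArg (fun u => ((y⁻¹ : (Module.End F V)ˣ) : Module.End F V) u) h2
  simp only [unit_inv_apply, map_smul] at h3
  exact h3

/-- commutation up to a scalar passes to powers -/
theorem comm_pow' {A B : Module.End F V} {c : F} (h : A * B = c • (B * A)) (m : ℕ) :
    A * B ^ m = c ^ m • (B ^ m * A) := by
  induction m with
  | zero => simp
  | succ m ih =>
    rw [pow_succ, ← mul_assoc, ih, smul_mul_assoc, mul_assoc, h, mul_smul_comm, smul_smul,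
      ← mul_assoc, pow_succ]

theorem pow_eq_of_mod {ω : F} {r : ℕ} (hω : IsPrimitiveRoot ω r) (a : ℕ) : ω ^ a = ω ^ (a % r) := by
  conv_lhs => rw [← Nat.div_add_mod a r]
  rw [pow_add, pow_mul, hω.pow_eq_one, one_pow, one_mul]

/-- (shift) a non-scalar `z ∈ Γ` is moved by some `x ∈ Γ`: `z x = ω x z` -/
theorem exists_shift {r : ℕ} (hr : r.Prime) {ω : F} (hω : IsPrimitiveRoot ω r)
    {Γ : Subgroup (Module.End F V)ˣ} (hΓ : SympType r ω Γ) {z : (Module.End F V)ˣ} (hz : z ∈ Γ)
    (hzns : ¬ IsScalar (z : Module.End F V)) :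
    ∃ x ∈ Γ, (z : Module.End F V) * (x : Module.End F V) =
      ω ^ 1 • ((x : Module.End F V) * (z : Module.End F V)) := by
  have h1 : ¬ ∀ a ∈ Γ, (z : Module.End F V) * (a : Module.End F V) = (a : Module.End F V) * (z : Module.End F V) :=
    fun h => hzns (hΓ.schur _ h)
  push Not at h1
  obtain ⟨b, hb, hne⟩ := h1
  obtain ⟨k, hk⟩ := hΓ.comm z hz b hb
  have hk1 : ω ^ k ≠ 1 := by
    intro h
    rw [h, one_smul] at hk
    exact hne hk
  rw [pow_eq_of_mod hω] at hk1 hk
  have hk0 : k % r ≠ 0 := by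
    intro h
    rw [h, pow_zero] at hk1
    exact hk1 rfl
  have hlt : k % r < r := Nat.mod_lt _ hr.pos
  have hcop : Nat.Coprime (k % r) r := by
    rw [Nat.coprime_comm]
    exact (Nat.Prime.coprime_iff_not_dvd hr).2 (fun hd => hk0 (Nat.eq_zero_of_dvd_of_lt hd hlt))
  obtain ⟨m, -, hm⟩ := Nat.exists_mul_mod_eq_one_of_coprime hcop hr.one_lt
  refine ⟨b ^ m, Γ.pow_mem hb m, ?_⟩
  rw [Units.val_pow_eq_pow_val, comm_pow' hk m, ← pow_mul, pow_eq_of_mod hω (k % r * m), hm]

/-- the commutator-like element `y⁻¹ g y g⁻¹` -/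
def nn (g y : (Module.End F V)ˣ) : (Module.End F V)ˣ := y⁻¹ * g * y * g⁻¹

theorem g_mul_y (g y : (Module.End F V)ˣ) : g * y = y * nn g y * g := by
  simp [nn, mul_assoc]

theorem g_y_apply (g y : (Module.End F V)ˣ) (v : V) :
    (g : Module.End F V) ((y : Module.End F V) v) =
      (y : Module.End F V) (((nn g y : (Module.End F V)ˣ) : Module.End F V) ((g : Module.End F V) v)) := by
  have h := congrArg (fun u : (Module.End F V)ˣ => (u : Module.End F V) v) (g_mul_y g y)
  simpa [Units.val_mul, Module.End.mul_apply] using h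

theorem nn_mem {Γ : Subgroup (Module.End F V)ˣ} {g y : (Module.End F V)ˣ}
    (hg : g ∈ Subgroup.normalizer (Γ : Set (Module.End F V)ˣ)) (hy : y ∈ Γ) : nn g y ∈ Γ := by
  have h1 : g * y * g⁻¹ ∈ Γ := (Subgroup.mem_set_normalizer_iff.1 hg y).1 hy
  have : nn g y = y⁻¹ * (g * y * g⁻¹) := by simp [nn, mul_assoc]
  rw [this]
  exact Γ.mul_mem (Γ.inv_mem hy) h1

/-- propagation of scalar blocks of `g` -/
theorem prop_g {z g y : (Module.End F V)ˣ} {ω : F} (hω0 : ω ≠ 0) {k : ℕ}
    (hzy : (z : Module.End F V) * (y : Module.End F V) = ω ^ k • ((y : Module.End F V) * (z : Module.End F V)))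
    {j : ℕ} {a ν : F} (hga : ∀ v ∈ Ej z ω j, (g : Module.End F V) v = a • v)
    (hn : ∀ v ∈ Ej z ω j, ((nn g y : (Module.End F V)ˣ) : Module.End F V) v = ν • v) :
    ∀ v ∈ Ej z ω (j + k), (g : Module.End F V) v = (a * ν) • v := by
  intro v hv
  have hv' := map_inv_Ej hω0 hzy hv
  set v' := ((y⁻¹ : (Module.End F V)ˣ) : Module.End F V) v
  have hyv : (y : Module.End F V) v' = v := unit_apply_inv y v
  rw [← hyv, g_y_apply, hga v' hv', map_smul, hn v' hv', map_smul, map_smul, smul_smul]

/-- propagation of scalar blocks of `y⁻¹ g y g⁻¹` -/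
theorem prop_n {z g y : (Module.End F V)ˣ} {ω : F} (hω0 : ω ≠ 0) {k : ℕ}
    (hzy : (z : Module.End F V) * (y : Module.End F V) = ω ^ k • ((y : Module.End F V) * (z : Module.End F V)))
    {e : ℕ} (he : ((nn g y : (Module.End F V)ˣ) : Module.End F V) * (y : Module.End F V) =
      ω ^ e • ((y : Module.End F V) * ((nn g y : (Module.End F V)ˣ) : Module.End F V)))
    {j : ℕ} {ν : F}
    (hn : ∀ v ∈ Ej z ω j, ((nn g y : (Module.End F V)ˣ) : Module.End F V) v = ν • v) :
    ∀ v ∈ Ej z ω (j + k), ((nn g y : (Module.End F V)ˣ) : Module.End F V) v = (ω ^ e * ν) • v := by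
  intro v hv
  have hv' := map_inv_Ej hω0 hzy hv
  set v' := ((y⁻¹ : (Module.End F V)ˣ) : Module.End F V) v
  have hyv : (y : Module.End F V) v' = v := unit_apply_inv y v
  have h := congrArg (fun M : Module.End F V => M v') he
  simp only [Module.End.mul_apply, LinearMap.smul_apply] at h
  rw [← hyv, h, hn v' hv', map_smul, smul_smul]

/-- if `g` is scalar on `E_j` and on `E_{j+k}` then `y⁻¹ g y g⁻¹` is scalar on `E_j` -/
theorem nn_scalar {z g y : (Module.End F V)ˣ} {ω : F} {k : ℕ}
    (hzy : (z : Module.End F V) * (y : Module.End F V) = ω ^ k • ((y : Module.End F V) * (z : Module.End F V)))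
    {j : ℕ} {a a' : F} (hga : ∀ v ∈ Ej z ω j, (g : Module.End F V) v = a • v)
    (hga' : ∀ v ∈ Ej z ω (j + k), (g : Module.End F V) v = a' • v) :
    ∀ v ∈ Ej z ω j, ((nn g y : (Module.End F V)ˣ) : Module.End F V) v = (a' * a⁻¹) • v := by
  intro v hv
  by_cases hv0 : v = 0
  · rw [hv0, map_zero, smul_zero]
  have ha0 : a ≠ 0 := by
    intro h
    have h1 := hga v hv
    rw [h, zero_smul] at h1
    have h2 := unit_inv_apply g v
    rw [h1, map_zero] at h2
    exact hv0 h2.symm
  have hginv : ((g⁻¹ : (Module.End F V)ˣ) : Module.End F V) v = a⁻¹ • v := by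
    have h1 := unit_inv_apply g v
    rw [hga v hv, map_smul] at h1
    calc ((g⁻¹ : (Module.End F V)ˣ) : Module.End F V) v
        = a⁻¹ • (a • ((g⁻¹ : (Module.End F V)ˣ) : Module.End F V) v) := by
          rw [smul_smul, inv_mul_cancel₀ ha0, one_smul]
      _ = a⁻¹ • v := by rw [h1]
  have hyv := map_Ej hzy hv
  show ((y⁻¹ * g * y * g⁻¹ : (Module.End F V)ˣ) : Module.End F V) v = _
  simp only [Units.val_mul, Module.End.mul_apply]
  rw [hginv, map_smul, map_smul, hga' _ hyv, map_smul, map_smul, unit_inv_apply, smul_smul, mul_comm]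

theorem Ej_congr {z : (Module.End F V)ˣ} {ω : F} {r : ℕ} (hω : IsPrimitiveRoot ω r) {i j : ℕ}
    (h : i % r = j % r) : Ej z ω i = Ej z ω j := by
  unfold Ej
  rw [pow_eq_of_mod hω i, pow_eq_of_mod hω j, h]

/-- Claim 1: two scalar blocks at distance `k`, `r ∤ k`, force all blocks to be scalar -/
theorem all_scalar_of_two {r : ℕ} (hr : r.Prime) {ω : F} (hω : IsPrimitiveRoot ω r)
    {Γ : Subgroup (Module.End F V)ˣ} (hΓ : SympType r ω Γ)
    {g : (Module.End F V)ˣ} (hg : g ∈ Subgroup.normalizer (Γ : Set (Module.End F V)ˣ))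
    {z y : (Module.End F V)ˣ} (hy : y ∈ Γ) {k : ℕ} (hk : ¬ r ∣ k)
    (hzy : (z : Module.End F V) * (y : Module.End F V) = ω ^ k • ((y : Module.End F V) * (z : Module.End F V)))
    {j : ℕ} {a a' : F} (hga : ∀ v ∈ Ej z ω j, (g : Module.End F V) v = a • v)
    (hga' : ∀ v ∈ Ej z ω (j + k), (g : Module.End F V) v = a' • v) (i : ℕ) :
    ∃ b : F, ∀ v ∈ Ej z ω i, (g : Module.End F V) v = b • v := by
  have hω0 : ω ≠ 0 := hω.ne_zero hr.ne_zero
  have hn := nn_scalar hzy hga hga'
  obtain ⟨e, he⟩ := hΓ.comm _ (nn_mem hg hy) y hy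
  have key : ∀ m : ℕ, ∃ b ν : F, (∀ v ∈ Ej z ω (j + m * k), (g : Module.End F V) v = b • v) ∧
      (∀ v ∈ Ej z ω (j + m * k), ((nn g y : (Module.End F V)ˣ) : Module.End F V) v = ν • v) := by
    intro m
    induction m with
    | zero => exact ⟨a, a' * a⁻¹, by simpa using hga, by simpa using hn⟩
    | succ m ih =>
      obtain ⟨b, ν, hb, hν⟩ := ih
      have e1 : j + (m + 1) * k = j + m * k + k := by ring
      rw [e1]
      exact ⟨b * ν, ω ^ e * ν, prop_g hω0 hzy hb hν, prop_n hω0 hzy he hν⟩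
  have hcop : Nat.Coprime k r := by
    rw [Nat.coprime_comm]
    exact (Nat.Prime.coprime_iff_not_dvd hr).2 hk
  obtain ⟨m, -, hm⟩ := Nat.exists_mul_mod_eq_of_coprime (i + (r - 1) * j) hcop hr.ne_zero
  obtain ⟨b, -, hb, -⟩ := key m
  refine ⟨b, ?_⟩
  have hmod : (j + m * k) % r = i % r := by
    have h1 : (j + m * k) ≡ j + (i + (r - 1) * j) [MOD r] := by
      apply Nat.ModEq.add_left
      rw [mul_comm]
      exact hm
    have h2 : j + (i + (r - 1) * j) = i + r * j := by
      have : 1 ≤ r := hr.pos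
      zify [this]
      ring
    have h3 : i + r * j ≡ i [MOD r] := by
      have : (r * j) % r = 0 := Nat.mul_mod_right r j
      exact (Nat.ModEq.add_left i (show r * j ≡ 0 [MOD r] from this)).trans (by simp [Nat.ModEq])
    rw [h2] at h1
    exact h1.trans h3
  rw [← Ej_congr hω hmod]
  exact hb

/-- `y⁻¹ g y g⁻¹` stabilises `E_j` when `g` commutes with `z` and `z y = ω^k y z` -/
theorem nn_stable {z g y : (Module.End F V)ˣ} {ω : F} (hω0 : ω ≠ 0) {k : ℕ}
    (hzy : (z : Module.End F V) * (y : Module.End F V) = ω ^ k • ((y : Module.End F V) * (z : Module.End F V)))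
    (hzg : z * g = g * z) (j : ℕ) :
    (∀ v ∈ Ej z ω j, ((nn g y : (Module.End F V)ˣ) : Module.End F V) v ∈ Ej z ω j) ∧
    (∀ v ∈ Ej z ω j, (((nn g y)⁻¹ : (Module.End F V)ˣ) : Module.End F V) v ∈ Ej z ω j) := by
  constructor
  · intro v hv
    show ((y⁻¹ * g * y * g⁻¹ : (Module.End F V)ˣ) : Module.End F V) v ∈ _
    simp only [Units.val_mul, Module.End.mul_apply]
    exact map_inv_Ej hω0 hzy ((stable_of_commute hzg _).1 _ (map_Ej hzy ((stable_of_commute hzg _).2 _ hv)))
  · intro v hv
    have : (nn g y)⁻¹ = g * y⁻¹ * g⁻¹ * y := by simp [nn, mul_assoc]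
    rw [this]
    simp only [Units.val_mul, Module.End.mul_apply]
    exact (stable_of_commute hzg _).1 _ (map_inv_Ej hω0 hzy ((stable_of_commute hzg _).2 _ (map_Ej hzy hv)))

/-- Claim 2: next to a scalar block, a non-scalar block meets every eigenspace of `g` in dimension at
most `dim E_j / r` -/
theorem block_le [FiniteDimensional F V] {r : ℕ} (hr : r.Prime) {ω : F} (hω : IsPrimitiveRoot ω r)
    {Γ : Subgroup (Module.End F V)ˣ} (hΓ : SympType r ω Γ)
    {g : (Module.End F V)ˣ} (hg : g ∈ Subgroup.normalizer (Γ : Set (Module.End F V)ˣ))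
    {z : (Module.End F V)ˣ} (hz : z ∈ Γ) (hzr : z ^ r = 1) (hzns : ¬ IsScalar (z : Module.End F V))
    (hzg : z * g = g * z) {y : (Module.End F V)ˣ} (hy : y ∈ Γ) {k : ℕ}
    (hzy : (z : Module.End F V) * (y : Module.End F V) = ω ^ k • ((y : Module.End F V) * (z : Module.End F V)))
    {j : ℕ} {a : F} (ha0 : a ≠ 0) (hga : ∀ v ∈ Ej z ω j, (g : Module.End F V) v = a • v)
    (hnot : ¬ ∃ b : F, ∀ v ∈ Ej z ω (j + k), (g : Module.End F V) v = b • v) (c : F) :
    r * finrank F ↥(Module.End.eigenspace (g : Module.End F V) c ⊓ Ej z ω (j + k)) ≤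
      finrank F ↥(Ej z ω j) := by
  have hω0 : ω ≠ 0 := hω.ne_zero hr.ne_zero
  set au : Fˣ := Units.mk0 a ha0 with hau
  set m : (Module.End F V)ˣ := sc au * nn g y with hm
  have hmΓ : m ∈ Γ := Γ.mul_mem (hΓ.scalar_mem au) (nn_mem hg hy)
  have hm_apply : ∀ v : V, (m : Module.End F V) v = a • ((nn g y : (Module.End F V)ˣ) : Module.End F V) v := by
    intro v
    rw [hm, Units.val_mul, Module.End.mul_apply, sc_apply]
    rfl
  have hminv_apply : ∀ v : V, ((m⁻¹ : (Module.End F V)ˣ) : Module.End F V) v =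
      a⁻¹ • (((nn g y)⁻¹ : (Module.End F V)ˣ) : Module.End F V) v := by
    intro v
    have : m⁻¹ = (nn g y)⁻¹ * sc au⁻¹ := by
      rw [hm, mul_inv_rev]
      simp [sc]
    rw [this, Units.val_mul, Module.End.mul_apply, sc_apply, map_smul]
    simp [hau]
  have hst := nn_stable hω0 hzy hzg j (g := g)
  have h1 : ∀ v ∈ Ej z ω j, (m : Module.End F V) v ∈ Ej z ω j := by
    intro v hv
    rw [hm_apply]
    exact (Ej z ω j).smul_mem _ (hst.1 v hv)
  have h2 : ∀ v ∈ Ej z ω j, ((m⁻¹ : (Module.End F V)ˣ) : Module.End F V) v ∈ Ej z ω j := by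
    intro v hv
    rw [hminv_apply]
    exact (Ej z ω j).smul_mem _ (hst.2 v hv)
  have hres := sympType_res hr hω hΓ hz hzr hzns j
  have hmem : resUnit (Ej z ω j) m h1 h2 ∈ resGroup Γ (Ej z ω j) :=
    ⟨m, hmΓ, fun x => rfl⟩
  have hnsu : ¬ IsScalar ((resUnit (Ej z ω j) m h1 h2 : (Module.End F (Ej z ω j))ˣ) : Module.End F (Ej z ω j)) := by
    rw [isScalar_resUnit_iff]
    rintro ⟨b, hb⟩
    apply hnot
    have hn : ∀ v ∈ Ej z ω j, ((nn g y : (Module.End F V)ˣ) : Module.End F V) v = (a⁻¹ * b) • v := by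
      intro v hv
      have := hb v hv
      rw [hm_apply] at this
      rw [← smul_smul, ← this, smul_smul, inv_mul_cancel₀ ha0, one_smul]
    exact ⟨a * (a⁻¹ * b), prop_g hω0 hzy hga hn⟩
  have hL1 := eig_le_of_nonscalar hr hω hres.1 hmem hnsu c
  rw [finrank_eigenspace_resUnit] at hL1
  -- compare `W ⊓ E_{j+k}` with the image under `y` of `ker (m - c) ⊓ E_j`
  have hsub : Module.End.eigenspace (g : Module.End F V) c ⊓ Ej z ω (j + k) ≤
      (Module.End.eigenspace (m : Module.End F V) c ⊓ Ej z ω j).map (y : Module.End F V) := by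
    intro v hv
    obtain ⟨hvW, hvE⟩ := hv
    have hv' := map_inv_Ej hω0 hzy hvE
    set v' := ((y⁻¹ : (Module.End F V)ˣ) : Module.End F V) v with hv'def
    have hyv : (y : Module.End F V) v' = v := unit_apply_inv y v
    refine ⟨v', ⟨?_, hv'⟩, hyv⟩
    have hvW' : (g : Module.End F V) v = c • v := Module.End.mem_eigenspace_iff.1 hvW
    clear hvW
    rename' hvW' => hvW
    show v' ∈ Module.End.eigenspace (m : Module.End F V) c
    rw [Module.End.mem_eigenspace_iff]
    rw [← hyv, g_y_apply, hga v' hv', map_smul, map_smul] at hvW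
    -- a • y (n v') = c • y v'
    have h3 := congrArg (fun u => ((y⁻¹ : (Module.End F V)ˣ) : Module.End F V) u) hvW
    simp only [map_smul, unit_inv_apply] at h3
    rw [hm_apply]
    exact h3
  have h4 := Submodule.finrank_mono hsub
  have h5 := Submodule.finrank_map_le (y : Module.End F V)
    (Module.End.eigenspace (m : Module.End F V) c ⊓ Ej z ω j)
  calc r * finrank F ↥(Module.End.eigenspace (g : Module.End F V) c ⊓ Ej z ω (j + k))
      ≤ r * finrank F ↥(Module.End.eigenspace (m : Module.End F V) c ⊓ Ej z ω j) :=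
        Nat.mul_le_mul_left r (h4.trans h5)
    _ ≤ finrank F ↥(Ej z ω j) := hL1

theorem isScalar_of_finrank_zero [FiniteDimensional F V] (h : finrank F V = 0) (M : Module.End F V) :
    IsScalar M := by
  have : Subsingleton V := Module.finrank_zero_iff.1 h
  exact ⟨0, by ext v; exact Subsingleton.elim _ _⟩

theorem exists_ne_zero_of_finrank_pos {E : Submodule F V} [FiniteDimensional F V]
    (h : 0 < finrank F ↥E) : ∃ v ∈ E, v ≠ 0 := by
  obtain ⟨⟨v, hv⟩, hv0⟩ := Module.finrank_pos_iff_exists_ne_zero.1 h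
  exact ⟨v, hv, fun h0 => hv0 (Subtype.ext h0)⟩

theorem scalar_unique {g : (Module.End F V)ˣ} {E : Submodule F V} {v : V} (hv : v ∈ E) (hv0 : v ≠ 0)
    {a b : F} (ha : ∀ v ∈ E, (g : Module.End F V) v = a • v) (hb : ∀ v ∈ E, (g : Module.End F V) v = b • v) :
    a = b := by
  have h := (ha v hv).symm.trans (hb v hv)
  by_contra hne
  have : (a - b) • v = 0 := by rw [sub_smul, h, sub_self]
  rcases smul_eq_zero.1 this with h1 | h1
  · exact hne (sub_eq_zero.1 h1)
  · exact hv0 h1

theorem scalar_ne_zero {g : (Module.End F V)ˣ} {E : Submodule F V} {v : V} (hv : v ∈ E) (hv0 : v ≠ 0)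
    {a : F} (ha : ∀ v ∈ E, (g : Module.End F V) v = a • v) : a ≠ 0 := by
  intro h
  have h1 := ha v hv
  rw [h, zero_smul] at h1
  have h2 := unit_inv_apply g v
  rw [h1, map_zero] at h2
  exact hv0 h2.symm

/-- (L8e) the case of a scalar block -/
theorem scalar_block_bound [FiniteDimensional F V] {r : ℕ} (hr : r.Prime) (h5 : 5 ≤ r) {ω : F}
    (hω : IsPrimitiveRoot ω r) {Γ : Subgroup (Module.End F V)ˣ} (hΓ : SympType r ω Γ)
    {g : (Module.End F V)ˣ} (hg : g ∈ Subgroup.normalizer (Γ : Set (Module.End F V)ˣ))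
    (hns : ¬ IsScalar (g : Module.End F V)) (hgr : g ^ r = 1)
    {z : (Module.End F V)ˣ} (hz : z ∈ Γ) (hzr : z ^ r = 1) (hzns : ¬ IsScalar (z : Module.End F V))
    (hzg : z * g = g * z) (j₀ : ℕ) (a : F)
    (hsc : ∀ v ∈ Module.End.eigenspace (z : Module.End F V) (ω ^ j₀), (g : Module.End F V) v = a • v)
    (c : F) :
    2 * finrank F (Module.End.eigenspace (g : Module.End F V) c) ≤ finrank F V := by
  classical
  have hω0 : ω ≠ 0 := hω.ne_zero hr.ne_zero
  have hres := fun j => sympType_res hr hω hΓ hz hzr hzns j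
  have hsum := finrank_eq_sum hr hω hzr hzg c
  have hnpos : 0 < finrank F V := by
    rcases Nat.eq_zero_or_pos (finrank F V) with h | h
    · exact absurd (isScalar_of_finrank_zero h _) hns
    · exact h
  set e₀ := finrank F ↥(Ej z ω j₀) with he₀
  have hE : ∀ j, finrank F ↥(Ej z ω j) = e₀ := by
    intro j
    have h1 := (hres j).2
    have h2 := (hres j₀).2
    exact Nat.eq_of_mul_eq_mul_left hr.pos (h1.trans h2.symm)
  have hre : r * e₀ = finrank F V := (hres j₀).2
  have he₀pos : 0 < e₀ := by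
    rcases Nat.eq_zero_or_pos e₀ with h | h
    · rw [h, mul_zero] at hre; omega
    · exact h
  have hvec : ∀ j, ∃ v ∈ Ej z ω j, v ≠ 0 := fun j =>
    exists_ne_zero_of_finrank_pos (by rw [hE j]; exact he₀pos)
  obtain ⟨x, hxΓ, hzx⟩ := exists_shift hr hω hΓ hz hzns
  have hzxk : ∀ k : ℕ, (z : Module.End F V) * ((x ^ k : (Module.End F V)ˣ) : Module.End F V) =
      ω ^ k • (((x ^ k : (Module.End F V)ˣ) : Module.End F V) * (z : Module.End F V)) := by
    intro k
    rw [Units.val_pow_eq_pow_val, comm_pow' hzx k, ← pow_mul, one_mul]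
  by_cases hT : ∀ i : ℕ, ∃ b : F, ∀ v ∈ Ej z ω i, (g : Module.End F V) v = b • v
  · -- all blocks are scalar
    choose b hb using hT
    have hb0 : ∀ j, b j ≠ 0 := by
      intro j
      obtain ⟨v, hv, hv0⟩ := hvec j
      exact scalar_ne_zero hv hv0 (hb j)
    set ν : ℕ → F := fun j => b (j + 1) * (b j)⁻¹ with hν
    have hnν : ∀ j, ∀ v ∈ Ej z ω j, ((nn g x : (Module.End F V)ˣ) : Module.End F V) v = ν j • v :=
      fun j => nn_scalar hzx (hb j) (hb (j + 1))
    have hstep : ∀ j, b (j + 1) = b j * ν j := by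
      intro j
      rw [hν]
      field_simp [hb0 j]
    obtain ⟨e, he⟩ := hΓ.comm _ (nn_mem hg hxΓ) x hxΓ
    have hνstep : ∀ j, ν (j + 1) = ω ^ e * ν j := by
      intro j
      obtain ⟨v, hv, hv0⟩ := hvec (j + 1)
      have h1 := hnν (j + 1) v hv
      have h2 := prop_n hω0 hzx he (hnν j) v hv
      have h3 : (ν (j + 1) - ω ^ e * ν j) • v = 0 := by rw [sub_smul, ← h1, ← h2, sub_self]
      rcases smul_eq_zero.1 h3 with h4 | h4
      · exact sub_eq_zero.1 h4
      · exact absurd h4 hv0
    have hper : ∀ j, b (j + r) = b j := by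
      intro j
      obtain ⟨v, hv, hv0⟩ := hvec j
      have hv' : v ∈ Ej z ω (j + r) := by
        rw [Ej_congr hω (show (j + r) % r = j % r by simp)]
        exact hv
      exact scalar_unique hv' hv0 (hb (j + r)) (by
        rw [Ej_congr hω (show (j + r) % r = j % r by simp)]; exact hb j)
    have hnc : ∃ j, b j ≠ b 0 := by
      by_contra hcon
      push Not at hcon
      apply hns
      have hs := finrank_eq_sum hr hω hzr hzg (b 0)
      have h1 : ∀ j ∈ Finset.range r, finrank F ↥(Module.End.eigenspace (g : Module.End F V) (b 0) ⊓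
          Module.End.eigenspace (z : Module.End F V) (ω ^ j)) = e₀ := by
        intro j _
        have : Module.End.eigenspace (g : Module.End F V) (b 0) ⊓
            Module.End.eigenspace (z : Module.End F V) (ω ^ j) =
            Module.End.eigenspace (z : Module.End F V) (ω ^ j) := by
          apply inf_eq_right.2
          intro v hv
          rw [Module.End.mem_eigenspace_iff, ← hcon j]
          exact hb j v hv
        rw [this]
        exact hE j
      rw [Finset.sum_congr rfl h1, Finset.sum_const, Finset.card_range, smul_eq_mul, hre] at hs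
      have htop : Module.End.eigenspace (g : Module.End F V) (b 0) = ⊤ :=
        Submodule.eq_top_of_finrank_eq hs
      refine ⟨b 0, ?_⟩
      ext v
      have hv : v ∈ Module.End.eigenspace (g : Module.End F V) (b 0) := by rw [htop]; trivial
      rw [Module.End.mem_eigenspace_iff] at hv
      simpa using hv
    have hr2 : r ≠ 2 := by omega
    have hcard : ((Finset.range r).filter (fun j => b j = c)).card ≤ 2 := by
      by_contra hcon
      rw [not_le, Finset.two_lt_card] at hcon
      obtain ⟨i, hi, j, hj, k, hk, hij, hik, hjk⟩ := hcon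
      simp only [Finset.mem_filter, Finset.mem_range] at hi hj hk
      have key : ∀ i j k : ℕ, i < j → j < k → k < r → b i = c → b j = c → b k = c → False :=
        fun i j k h1 h2 h3 h4 h5 h6 =>
          no_three hr hr2 hω b ν hb0 hstep e hνstep hper hnc c i j k h1 h2 h3 h4 h5 h6
      rcases lt_trichotomy i j with h1 | h1 | h1
      · rcases lt_trichotomy j k with h2 | h2 | h2
        · exact key i j k h1 h2 hk.1 hi.2 hj.2 hk.2
        · exact hjk h2
        · rcases lt_trichotomy i k with h3 | h3 | h3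
          · exact key i k j h3 h2 hj.1 hi.2 hk.2 hj.2
          · exact hik h3
          · exact key k i j h3 h1 hj.1 hk.2 hi.2 hj.2
      · exact hij h1
      · rcases lt_trichotomy i k with h2 | h2 | h2
        · exact key j i k h1 h2 hk.1 hj.2 hi.2 hk.2
        · exact hik h2
        · rcases lt_trichotomy j k with h3 | h3 | h3
          · exact key j k i h3 h2 hi.1 hj.2 hk.2 hi.2
          · exact hjk h3
          · exact key k j i h3 h1 hi.1 hk.2 hj.2 hi.2
    have hterm : ∀ j ∈ Finset.range r, finrank F ↥(Module.End.eigenspace (g : Module.End F V) c ⊓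
        Module.End.eigenspace (z : Module.End F V) (ω ^ j)) ≤ if b j = c then e₀ else 0 := by
      intro j _
      split_ifs with hbc
      · rw [← hE j]
        exact Submodule.finrank_mono inf_le_right
      · have : Module.End.eigenspace (g : Module.End F V) c ⊓
            Module.End.eigenspace (z : Module.End F V) (ω ^ j) = ⊥ := by
          rw [eq_bot_iff]
          intro v hv
          obtain ⟨h1, h2⟩ := hv
          have h1' : (g : Module.End F V) v = c • v := Module.End.mem_eigenspace_iff.1 h1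
          have h3 := hb j v h2
          have h4 : (b j - c) • v = 0 := by rw [sub_smul, ← h3, ← h1', sub_self]
          rcases smul_eq_zero.1 h4 with h5 | h5
          · exact absurd (sub_eq_zero.1 h5) hbc
          · exact h5
        rw [this, finrank_bot]
    have hw : finrank F (Module.End.eigenspace (g : Module.End F V) c) ≤ 2 * e₀ := by
      rw [hsum]
      calc _ ≤ ∑ j ∈ Finset.range r, (if b j = c then e₀ else 0) := Finset.sum_le_sum hterm
        _ = ((Finset.range r).filter (fun j => b j = c)).card * e₀ := by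
          rw [← Finset.sum_filter, Finset.sum_const, smul_eq_mul]
        _ ≤ 2 * e₀ := Nat.mul_le_mul_right _ hcard
    nlinarith
  · -- some block is not scalar
    have hnot : ∀ k : ℕ, ¬ r ∣ k → ¬ ∃ b : F, ∀ v ∈ Ej z ω (j₀ + k), (g : Module.End F V) v = b • v := by
      intro k hk hcon
      obtain ⟨b, hb⟩ := hcon
      exact hT (fun i => all_scalar_of_two hr hω hΓ hg (Γ.pow_mem hxΓ k) hk (hzxk k) hsc hb i)
    obtain ⟨v₀, hv₀, hv₀0⟩ := hvec j₀
    have ha0 : a ≠ 0 := scalar_ne_zero hv₀ hv₀0 hsc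
    set j₁ := j₀ % r with hj₁
    have hj₁r : j₁ ∈ Finset.range r := Finset.mem_range.2 (Nat.mod_lt _ hr.pos)
    have hterm1 : r * finrank F ↥(Module.End.eigenspace (g : Module.End F V) c ⊓
        Module.End.eigenspace (z : Module.End F V) (ω ^ j₁)) ≤ r * e₀ := by
      apply Nat.mul_le_mul_left
      rw [← hE j₁]
      exact Submodule.finrank_mono inf_le_right
    have hterm2 : ∀ j ∈ (Finset.range r).erase j₁,
        r * finrank F ↥(Module.End.eigenspace (g : Module.End F V) c ⊓
          Module.End.eigenspace (z : Module.End F V) (ω ^ j)) ≤ e₀ := by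
      intro j hj
      rw [Finset.mem_erase, Finset.mem_range] at hj
      obtain ⟨hjne, hjr⟩ := hj
      set k := j + (r - 1) * j₀ with hk
      have hmod : (j₀ + k) % r = j % r := by
        have h2 : j₀ + k = j + r * j₀ := by
          have : 1 ≤ r := hr.pos
          rw [hk]
          zify [this]
          ring
        rw [h2, Nat.add_mul_mod_self_left]
      have hkr : ¬ r ∣ k := by
        intro hd
        apply hjne
        have h3 : (j₀ + k) % r = j₀ % r := by
          obtain ⟨t, ht⟩ := hd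
          rw [ht, Nat.add_mul_mod_self_left]
        rw [hj₁, ← h3, hmod, Nat.mod_eq_of_lt hjr]
      have h4 := block_le hr hω hΓ hg hz hzr hzns hzg (Γ.pow_mem hxΓ k) (hzxk k) ha0 hsc (hnot k hkr) c
      have h5 : Ej z ω (j₀ + k) = Ej z ω j := Ej_congr hω hmod
      rw [h5] at h4
      exact h4
    have hrw : r * finrank F (Module.End.eigenspace (g : Module.End F V) c) ≤ r * e₀ + (r - 1) * e₀ := by
      rw [hsum, Finset.mul_sum, ← Finset.add_sum_erase _ _ hj₁r]
      have h6 : ∑ j ∈ (Finset.range r).erase j₁,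
          r * finrank F ↥(Module.End.eigenspace (g : Module.End F V) c ⊓
            Module.End.eigenspace (z : Module.End F V) (ω ^ j)) ≤
          ∑ _j ∈ (Finset.range r).erase j₁, e₀ := Finset.sum_le_sum hterm2
      rw [Finset.sum_const, Finset.card_erase_of_mem hj₁r, Finset.card_range, smul_eq_mul] at h6
      have hj₁E : Module.End.eigenspace (z : Module.End F V) (ω ^ j₁) = Ej z ω j₁ := rfl
      omega
    obtain ⟨t, rfl⟩ : ∃ t, r = t + 1 := ⟨r - 1, by omega⟩
    rw [Nat.add_sub_cancel] at hrw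
    have ht : 4 ≤ t := by omega
    have key : (t + 1) * (2 * finrank F (Module.End.eigenspace (g : Module.End F V) c)) ≤
        (t + 1) * finrank F V := by
      rw [← hre]
      nlinarith [Nat.zero_le e₀, Nat.mul_le_mul_right e₀ ht, Nat.mul_le_mul_right (t * e₀) ht]
    exact Nat.le_of_mul_le_mul_left key (by omega)

end Cfsg.Agent.Helper43.EB
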