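import Mathlib
import Cfsg.Agent.Helper43.EB.Defs
import Cfsg.Agent.Helper43.EB.Leaves

/-! (L4) of helper43's WANTED #9543 for S5877: the two-translate bound, proved against the stubs
(L1) `eig_le_of_nonscalar`, (L2a) `finrank_inter_translate`, (L2b) `fix_inter_translate`, (L3) `caseA`
of `Cfsg.Agent.Helper43.EB.Leaves`. Written by helper75 (copied here from his branch, namespace changed). -/

set_option autoImplicit false

namespace Cfsg.Agent.Helper43.EB.L4

open Cfsg.Agent.Helper43.EB Module

variable {F : Type*} [Field F] {V : Type*} [AddCommGroup V] [Module F V]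

/-- (L4) the two-translate bound -/
theorem two_translate_bound [FiniteDimensional F V] {r : ℕ} (hr : r.Prime) {ω : F}
    (hω : IsPrimitiveRoot ω r) {Γ : Subgroup (Module.End F V)ˣ} (hΓ : SympType r ω Γ)
    {g : (Module.End F V)ˣ} (hg : g ∈ Subgroup.normalizer (Γ : Set (Module.End F V)ˣ))
    (hns : ¬ IsScalar (g : Module.End F V)) (c : F) :
    2 * r * finrank F (Module.End.eigenspace (g : Module.End F V) c) ≤ (r + 1) * finrank F V := by
  classical
  by_cases hall : ∀ x ∈ Γ, IsScalar ((x * g * x⁻¹ * g⁻¹ : (Module.End F V)ˣ) : Module.End F V)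
  · -- case A
    have h := caseA hr hω hΓ hns hall c
    have h2 : 2 ≤ r + 1 := by have := hr.two_le; omega
    calc 2 * r * finrank F (Module.End.eigenspace (g : Module.End F V) c)
        = 2 * (r * finrank F (Module.End.eigenspace (g : Module.End F V) c)) := by ring
      _ ≤ 2 * finrank F V := Nat.mul_le_mul_left _ h
      _ ≤ (r + 1) * finrank F V := Nat.mul_le_mul_right _ h2
  · push Not at hall
    obtain ⟨x, hx, hxs⟩ := hall
    -- `s = x g x⁻¹ g⁻¹ ∈ Γ`
    set s : (Module.End F V)ˣ := x * g * x⁻¹ * g⁻¹ with hs
    have hsΓ : s ∈ Γ := by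
      have h1 : g * x⁻¹ * g⁻¹ ∈ Γ := (Subgroup.mem_normalizer_iff.1 hg x⁻¹).1 (Γ.inv_mem hx)
      have : s = x * (g * x⁻¹ * g⁻¹) := by rw [hs]; group
      rw [this]
      exact Γ.mul_mem hx h1
    -- `W ⊓ xW ≤ ker (s - 1)`
    have hle : Module.End.eigenspace (g : Module.End F V) c ⊓
        (Module.End.eigenspace (g : Module.End F V) c).map (x : Module.End F V) ≤
        Module.End.eigenspace (s : Module.End F V) 1 := by
      intro u hu
      have h := fix_inter_translate g x c 1 hu
      rw [pow_one] at h
      rw [Module.End.mem_eigenspace_iff, one_smul]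
      exact h
    have h1 := eig_le_of_nonscalar hr hω hΓ hsΓ hxs 1
    have h2 := finrank_inter_translate g x c
    have h3 := Submodule.finrank_mono hle
    -- arithmetic
    have h4 : r * finrank F ↥(Module.End.eigenspace (g : Module.End F V) c ⊓
        (Module.End.eigenspace (g : Module.End F V) c).map (x : Module.End F V)) ≤ finrank F V :=
      le_trans (Nat.mul_le_mul_left _ h3) h1
    calc 2 * r * finrank F (Module.End.eigenspace (g : Module.End F V) c)
        = r * (2 * finrank F (Module.End.eigenspace (g : Module.End F V) c)) := by ring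
      _ ≤ r * (finrank F V + finrank F ↥(Module.End.eigenspace (g : Module.End F V) c ⊓
            (Module.End.eigenspace (g : Module.End F V) c).map (x : Module.End F V))) :=
          Nat.mul_le_mul_left _ h2
      _ = r * finrank F V + r * finrank F ↥(Module.End.eigenspace (g : Module.End F V) c ⊓
            (Module.End.eigenspace (g : Module.End F V) c).map (x : Module.End F V)) := by ring
      _ ≤ r * finrank F V + finrank F V := Nat.add_le_add_left h4 _
      _ = (r + 1) * finrank F V := by ring

end Cfsg.Agent.Helper43.EB.L4
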