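import Mathlib
import Cfsg.Agent.Helper43.EB.Leaves

/-! Piece (L5) of S5877 (for helper43): elements of odd prime order `p ≠ r` normalising a group of
symplectic type. Written by helper30 (copied here from his branch, namespace changed). -/

set_option autoImplicit false

namespace Cfsg.Agent.Helper43.EB.L5

open Cfsg.Agent.Helper43.EB Module

theorem kappa_trivial {Γ A : Type*} [Group Γ] [Group A] (κ : Γ → Γ → A)
    (hl : ∀ a b c, κ (a * b) c = κ a c * κ b c) (hrt : ∀ a b c, κ a (b * c) = κ a b * κ a c)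
    (halt : ∀ a, κ a a = 1) (φ : Γ →* Γ) (hφ : ∀ a b, κ (φ a) (φ b) = κ a b)
    {p r : ℕ} (hp : Odd p) (hpr : Nat.Coprime p r) (hφp : ∀ y, φ^[p] y = y)
    (hκr : ∀ a b, κ a b ^ r = 1)
    (H : ∀ y a b, κ (y * (φ^[a] y)⁻¹) (y * (φ^[b] y)⁻¹) = 1) (x y : Γ) :
    κ x (φ y * y⁻¹) = 1 := by
  have h1l : ∀ c, κ 1 c = 1 := fun c => by
    have := hl 1 1 c
    rw [mul_one] at this
    exact left_eq_mul.mp this
  have h1r : ∀ c, κ c 1 = 1 := fun c => by
    have := hrt c 1 1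
    rw [mul_one] at this
    exact left_eq_mul.mp this
  have hil : ∀ a c, κ a⁻¹ c = (κ a c)⁻¹ := fun a c => by
    have := hl a a⁻¹ c
    rw [mul_inv_cancel, h1l] at this
    exact eq_inv_of_mul_eq_one_right this.symm
  have hir : ∀ a c, κ a c⁻¹ = (κ a c)⁻¹ := fun a c => by
    have := hrt a c c⁻¹
    rw [mul_inv_cancel, h1r] at this
    exact eq_inv_of_mul_eq_one_right this.symm
  have hanti : ∀ a b, κ b a = (κ a b)⁻¹ := fun a b => by
    have := halt (a * b)
    rw [hl, hrt, hrt, halt, halt, one_mul, mul_one] at this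
    exact eq_inv_of_mul_eq_one_right this
  have hitm : ∀ k a b, φ^[k] (a * b) = φ^[k] a * φ^[k] b := fun k a b =>
    iterate_map_mul φ k a b
  have hitinv : ∀ k a b, κ (φ^[k] a) (φ^[k] b) = κ a b := by
    intro k
    induction k with
    | zero => intro a b; rfl
    | succ k ih =>
      intro a b
      rw [Function.iterate_succ_apply', Function.iterate_succ_apply', hφ, ih]
  -- step 6
  have hf : ∀ y k, κ y (φ^[k] y) = 1 := by
    intro y
    have hadd : ∀ a d, κ y (φ^[a + d] y) = κ y (φ^[a] y) * κ y (φ^[d] y) := by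
      intro a d
      have h := H y a (a + d)
      rw [hl, hrt, hrt, halt, one_mul, hir, hil, hir, hil, inv_inv] at h
      have h2 : κ (φ^[a] y) (φ^[a + d] y) = κ y (φ^[d] y) := by
        rw [Function.iterate_add_apply, hitinv]
      rw [h2, hanti y (φ^[a] y), inv_inv] at h
      -- h : (κ y y_{a+d})⁻¹ * (κ y y_a * κ y y_d) = 1
      have := eq_of_inv_mul_eq_one h
      exact this
    have hpow : ∀ k, κ y (φ^[k] y) = (κ y (φ y)) ^ k := by
      intro k
      induction k with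
      | zero => simp [halt]
      | succ k ih => rw [hadd k 1, ih, pow_succ]; rfl
    have hp1 : (κ y (φ y)) ^ p = 1 := by rw [← hpow, hφp, halt]
    have h1 : κ y (φ y) = 1 := by
      have := (pow_gcd_eq_one (a := κ y (φ y)) (m := p) (n := r)).mpr ⟨hp1, hκr y (φ y)⟩
      rwa [hpr, pow_one] at this
    intro k
    rw [hpow, h1, one_pow]
  -- step 7
  have hpol : ∀ k x y, κ x (φ^[k] y) * κ y (φ^[k] x) = 1 := by
    intro k x y
    have h := hf (x * y) k
    rw [hitm, hl, hrt, hrt, hf, hf, one_mul, mul_one] at h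
    exact h
  obtain ⟨m, hm⟩ := hp
  have hψ : ∀ y, φ^[m + 1] (φ^[m + 1] y) = φ y := by
    intro y
    rw [← Function.iterate_add_apply]
    have : m + 1 + (m + 1) = (2 * m + 1) + 1 := by ring
    rw [this, Function.iterate_succ_apply', ← hm, hφp]
  have hfin : ∀ x y, κ x (φ y) = κ x y := by
    intro x y
    have h := hpol (m + 1) x (φ^[m + 1] y)
    rw [hψ, hitinv, hanti x y] at h
    exact eq_of_mul_inv_eq_one h
  rw [hrt, hir, hfin, mul_inv_cancel]


variable {F : Type*} [Field F] {V : Type*} [AddCommGroup V] [Module F V]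

theorem sc_central (c : Fˣ) (m : (Module.End F V)ˣ) : m * sc c = sc c * m := by
  apply Units.ext
  rw [Units.val_mul, Units.val_mul, sc_val]
  rw [mul_smul_comm, smul_mul_assoc, mul_one, one_mul]

theorem sc_pow (c : Fˣ) (k : ℕ) : (sc c : (Module.End F V)ˣ) ^ k = sc (c ^ k) := by
  unfold sc; rw [map_pow]

theorem sc_one : (sc (1 : Fˣ) : (Module.End F V)ˣ) = 1 := by unfold sc; rw [map_one]

theorem comm_eq_sc {r : ℕ} {ω : F} (hω0 : ω ≠ 0) {Γ : Subgroup (Module.End F V)ˣ}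
    (hΓ : SympType r ω Γ) {a b : (Module.End F V)ˣ} (ha : a ∈ Γ) (hb : b ∈ Γ) :
    ∃ k : ℕ, a * b * a⁻¹ * b⁻¹ = sc ((Units.mk0 ω hω0) ^ k) := by
  obtain ⟨k, hk⟩ := hΓ.comm a ha b hb
  refine ⟨k, ?_⟩
  have h : a * b = sc ((Units.mk0 ω hω0) ^ k) * (b * a) := by
    apply Units.ext
    rw [Units.val_mul, Units.val_mul, sc_val, Units.val_mul, hk]
    simp
  calc a * b * a⁻¹ * b⁻¹ = (a * b) * (b * a)⁻¹ := by group
    _ = _ := by rw [h]; group

theorem fix_inv (s : (Module.End F V)ˣ) (u : V) (h : (s : Module.End F V) u = u) :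
    ((s⁻¹ : (Module.End F V)ˣ) : Module.End F V) u = u := by
  have h2 : (((s⁻¹ : (Module.End F V)ˣ) : Module.End F V) * (s : Module.End F V)) u = u := by
    rw [← Units.val_mul, inv_mul_cancel]; rfl
  rw [Module.End.mul_apply, h] at h2
  exact h2

theorem fix_mul (s t : (Module.End F V)ˣ) (u : V) (hs : (s : Module.End F V) u = u)
    (ht : (t : Module.End F V) u = u) :
    ((s * t : (Module.End F V)ˣ) : Module.End F V) u = u := by
  rw [Units.val_mul, Module.End.mul_apply, ht, hs]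

theorem comm_mul_left {G : Type*} [Group G] (a b c : G)
    (hz : ∀ m : G, m * (b * c * b⁻¹ * c⁻¹) = (b * c * b⁻¹ * c⁻¹) * m) :
    (a * b) * c * (a * b)⁻¹ * c⁻¹ = (a * c * a⁻¹ * c⁻¹) * (b * c * b⁻¹ * c⁻¹) := by
  have h : (a * b) * c * (a * b)⁻¹ * c⁻¹ = a * (b * c * b⁻¹ * c⁻¹) * (c * a⁻¹ * c⁻¹) := by group
  rw [h, hz a, hz (a * c * a⁻¹ * c⁻¹)]; group

theorem comm_mul_right {G : Type*} [Group G] (a b c : G)
    (hz : ∀ m : G, m * (a * c * a⁻¹ * c⁻¹) = (a * c * a⁻¹ * c⁻¹) * m) :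
    a * (b * c) * a⁻¹ * (b * c)⁻¹ = (a * b * a⁻¹ * b⁻¹) * (a * c * a⁻¹ * c⁻¹) := by
  have h : a * (b * c) * a⁻¹ * (b * c)⁻¹ = a * b * a⁻¹ * ((a * c * a⁻¹ * c⁻¹) * b⁻¹) := by group
  rw [h, ← hz b⁻¹]; group

/-- (L5) elements of odd prime order `p ≠ r` -/
theorem coprime_bound [FiniteDimensional F V] {r : ℕ} (hr : r.Prime) {ω : F}
    (hω : IsPrimitiveRoot ω r) {Γ : Subgroup (Module.End F V)ˣ} (hΓ : SympType r ω Γ)
    {g : (Module.End F V)ˣ} (hg : g ∈ Subgroup.normalizer (Γ : Set (Module.End F V)ˣ))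
    (hns : ¬ IsScalar (g : Module.End F V)) {p : ℕ} (hp : p.Prime) (hp2 : p ≠ 2) (hpr : p ≠ r)
    (hgp : g ^ p = 1) (c : F) :
    2 * finrank F (Module.End.eigenspace (g : Module.End F V) c) ≤ finrank F V := by
  by_contra hlt
  push Not at hlt
  have hω0 : ω ≠ 0 := hω.ne_zero hr.ne_zero
  have hwr : (Units.mk0 ω hω0) ^ r = 1 := Units.ext (by simp [hω.pow_eq_one])
  -- nonzero vectors in `W ⊓ yW`
  have hU : ∀ y : (Module.End F V)ˣ, ∃ u : V, u ≠ 0 ∧
      u ∈ Module.End.eigenspace (g : Module.End F V) c ⊓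
        (Module.End.eigenspace (g : Module.End F V) c).map (y : Module.End F V) := by
    intro y
    have h1 := finrank_inter_translate g y c
    have hpos : 0 < finrank F ↥(Module.End.eigenspace (g : Module.End F V) c ⊓
        (Module.End.eigenspace (g : Module.End F V) c).map (y : Module.End F V)) := by omega
    obtain ⟨⟨u, hu⟩, hne⟩ := Module.finrank_pos_iff_exists_ne_zero.mp hpos
    exact ⟨u, fun h => hne (Subtype.ext h), hu⟩
  -- a scalar `sc (w^k)` fixing a nonzero vector is `1`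
  have hsc1 : ∀ (k : ℕ) (u : V), u ≠ 0 →
      ((sc ((Units.mk0 ω hω0) ^ k) : (Module.End F V)ˣ) : Module.End F V) u = u →
      (sc ((Units.mk0 ω hω0) ^ k) : (Module.End F V)ˣ) = 1 := by
    intro k u hu h
    rw [sc_apply] at h
    have h1 : ((((Units.mk0 ω hω0) ^ k : Fˣ) : F)) = 1 := by
      have h2 : ((((Units.mk0 ω hω0) ^ k : Fˣ) : F) - 1) • u = 0 := by
        rw [sub_smul, h, one_smul, sub_self]
      rcases smul_eq_zero.mp h2 with h3 | h3
      · exact sub_eq_zero.mp h3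
      · exact absurd h3 hu
    have h4 : (Units.mk0 ω hω0) ^ k = 1 := Units.ext h1
    rw [h4, sc_one]
  have hcent : ∀ a b : ↥Γ, (a : (Module.End F V)ˣ) * b * (a : (Module.End F V)ˣ)⁻¹ *
      (b : (Module.End F V)ˣ)⁻¹ ∈ Subgroup.center (Module.End F V)ˣ := by
    intro a b
    obtain ⟨k, hk⟩ := comm_eq_sc hω0 hΓ a.2 b.2
    rw [hk, Subgroup.mem_center_iff]
    exact fun m => sc_central _ m
  have hcent' : ∀ a b : ↥Γ, ∀ m : (Module.End F V)ˣ,
      m * ((a : (Module.End F V)ˣ) * b * (a : (Module.End F V)ˣ)⁻¹ * (b : (Module.End F V)ˣ)⁻¹) =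
      ((a : (Module.End F V)ˣ) * b * (a : (Module.End F V)ˣ)⁻¹ * (b : (Module.End F V)ˣ)⁻¹) * m :=
    fun a b => Subgroup.mem_center_iff.mp (hcent a b)
  have hgn := Subgroup.mem_normalizer_iff.mp hg
  let φ : ↥Γ →* ↥Γ :=
    { toFun := fun a => ⟨g * a * g⁻¹, (hgn a).mp a.2⟩
      map_one' := Subtype.ext (by simp)
      map_mul' := fun a b => Subtype.ext (by simp [mul_assoc]) }
  have hφv : ∀ a : ↥Γ, ((φ a : ↥Γ) : (Module.End F V)ˣ) = g * a * g⁻¹ := fun a => rfl
  have hφit : ∀ (k : ℕ) (y : ↥Γ), ((φ^[k] y : ↥Γ) : (Module.End F V)ˣ) = g ^ k * y * (g ^ k)⁻¹ := by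
    intro k
    induction k with
    | zero => intro y; simp
    | succ k ih =>
      intro y
      rw [Function.iterate_succ_apply', hφv, ih, pow_succ']
      group
  let κ : ↥Γ → ↥Γ → ↥(Subgroup.center (Module.End F V)ˣ) := fun a b =>
    ⟨(a : (Module.End F V)ˣ) * b * (a : (Module.End F V)ˣ)⁻¹ * (b : (Module.End F V)ˣ)⁻¹, hcent a b⟩
  have hκv : ∀ a b : ↥Γ, ((κ a b : ↥(Subgroup.center (Module.End F V)ˣ)) : (Module.End F V)ˣ) =
      (a : (Module.End F V)ˣ) * b * (a : (Module.End F V)ˣ)⁻¹ * (b : (Module.End F V)ˣ)⁻¹ :=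
    fun a b => rfl
  have hκl : ∀ a b c, κ (a * b) c = κ a c * κ b c := by
    intro a b c
    apply Subtype.ext
    rw [Subgroup.coe_mul, hκv, hκv, hκv, Subgroup.coe_mul]
    exact comm_mul_left _ _ _ (hcent' b c)
  have hκr : ∀ a b c, κ a (b * c) = κ a b * κ a c := by
    intro a b c
    apply Subtype.ext
    rw [Subgroup.coe_mul, hκv, hκv, hκv, Subgroup.coe_mul]
    exact comm_mul_right _ _ _ (hcent' a c)
  have hκalt : ∀ a, κ a a = 1 := by
    intro a
    apply Subtype.ext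
    rw [hκv, Subgroup.coe_one]
    group
  have hκφ : ∀ a b, κ (φ a) (φ b) = κ a b := by
    intro a b
    apply Subtype.ext
    rw [hκv, hκv, hφv, hφv]
    have h : g * ↑a * g⁻¹ * (g * ↑b * g⁻¹) * (g * ↑a * g⁻¹)⁻¹ * (g * ↑b * g⁻¹)⁻¹ =
        g * ((a : (Module.End F V)ˣ) * b * (a : (Module.End F V)ˣ)⁻¹ *
          (b : (Module.End F V)ˣ)⁻¹) * g⁻¹ := by group
    rw [h, hcent' a b g]; group
  have hκpow : ∀ a b, κ a b ^ r = 1 := by
    intro a b
    apply Subtype.ext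
    rw [Subgroup.coe_pow, hκv, Subgroup.coe_one]
    obtain ⟨k, hk⟩ := comm_eq_sc hω0 hΓ a.2 b.2
    rw [hk, sc_pow, ← pow_mul, mul_comm, pow_mul, hwr, one_pow, sc_one]
  have hφp : ∀ y, φ^[p] y = y := by
    intro y
    apply Subtype.ext
    rw [hφit, hgp]; simp
  have hs : ∀ (y : ↥Γ) (k : ℕ), ((y * (φ^[k] y)⁻¹ : ↥Γ) : (Module.End F V)ˣ) =
      (y : (Module.End F V)ˣ) * g ^ k * (y : (Module.End F V)ˣ)⁻¹ * (g ^ k)⁻¹ := by
    intro y k
    rw [Subgroup.coe_mul, Subgroup.coe_inv, hφit]; group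
  have hH : ∀ y a b, κ (y * (φ^[a] y)⁻¹) (y * (φ^[b] y)⁻¹) = 1 := by
    intro y a b
    apply Subtype.ext
    rw [hκv, Subgroup.coe_one]
    obtain ⟨u, hu0, hu⟩ := hU (y : (Module.End F V)ˣ)
    obtain ⟨k, hk⟩ := comm_eq_sc hω0 hΓ (y * (φ^[a] y)⁻¹).2 (y * (φ^[b] y)⁻¹).2
    rw [hk]
    apply hsc1 k u hu0
    rw [← hk]
    have ha := fix_inter_translate g (y : (Module.End F V)ˣ) c a hu
    have hb := fix_inter_translate g (y : (Module.End F V)ˣ) c b hu
    rw [← hs] at ha hb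
    exact fix_mul _ _ u (fix_mul _ _ u (fix_mul _ _ u ha hb) (fix_inv _ u ha)) (fix_inv _ u hb)
  have key := kappa_trivial κ hκl hκr hκalt φ hκφ (hp.odd_of_ne_two hp2)
    ((Nat.coprime_primes hp hr).mpr hpr) hφp hκpow hH
  -- `g` commutes with every element of `Γ`
  have hcomm : ∀ y : ↥Γ, g * (y : (Module.End F V)ˣ) = y * g := by
    intro y
    have ht : ∀ x : ↥Γ, (x : (Module.End F V)ˣ) * (g * y * g⁻¹ * (y : (Module.End F V)ˣ)⁻¹) =
        (g * y * g⁻¹ * (y : (Module.End F V)ˣ)⁻¹) * x := by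
      intro x
      have h := congrArg Subtype.val (key x y)
      rw [hκv, Subgroup.coe_one, Subgroup.coe_mul, Subgroup.coe_inv, hφv] at h
      have h2 := mul_inv_eq_one.mp h
      have h3 := mul_inv_eq_iff_eq_mul.mp h2
      exact h3
    obtain ⟨lam, hlam⟩ := hΓ.schur ((g * y * g⁻¹ * (y : (Module.End F V)ˣ)⁻¹ : (Module.End F V)ˣ) :
        Module.End F V) (by
      intro a ha
      have h := ht ⟨a, ha⟩
      have h2 := congrArg Units.val h
      rw [Units.val_mul, Units.val_mul] at h2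
      exact h2.symm)
    obtain ⟨u, hu0, hu⟩ := hU (y : (Module.End F V)ˣ)
    have h1 := fix_inter_translate g (y : (Module.End F V)ˣ) c 1 hu
    rw [pow_one] at h1
    have h2 := fix_inv _ u h1
    have h3 : ((y : (Module.End F V)ˣ) * g * (y : (Module.End F V)ˣ)⁻¹ * g⁻¹)⁻¹ =
        g * y * g⁻¹ * (y : (Module.End F V)ˣ)⁻¹ := by group
    rw [h3, hlam] at h2
    have hl1 : lam = 1 := by
      have h4 : (lam - 1) • u = 0 := by
        rw [sub_smul, one_smul]
        have : (lam • (1 : Module.End F V)) u = lam • u := by simp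
        rw [← this, h2, sub_self]
      rcases smul_eq_zero.mp h4 with h5 | h5
      · exact sub_eq_zero.mp h5
      · exact absurd h5 hu0
    rw [hl1, one_smul] at hlam
    have h6 : g * y * g⁻¹ * (y : (Module.End F V)ˣ)⁻¹ = 1 := Units.ext hlam
    have h7 := mul_inv_eq_one.mp h6
    exact mul_inv_eq_iff_eq_mul.mp h7
  apply hns
  apply hΓ.schur
  intro a ha
  have h := congrArg Units.val (hcomm ⟨a, ha⟩)
  rw [Units.val_mul, Units.val_mul] at h
  exact h

end Cfsg.Agent.Helper43.EB.L5
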