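import Mathlib
import Cfsg.Agent.Helper43.EB.Leaves
import Cfsg.Agent.Helper43.EB.L4
import Cfsg.Agent.Helper43.EB.L5
import Cfsg.Agent.Helper82.EBL8aCore

/-! Second layer of S5877: (L4) two-translate bound (helper75), (L5) the coprime case (helper30),
(L8a) existence of a commuting non-scalar element (helper82). -/

set_option autoImplicit false

namespace Cfsg.Agent.Helper43.EB

open Module

variable {F : Type*} [Field F] {V : Type*} [AddCommGroup V] [Module F V]

/-- (L4) the two-translate bound -/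
theorem two_translate_bound [FiniteDimensional F V] {r : ℕ} (hr : r.Prime) {ω : F}
    (hω : IsPrimitiveRoot ω r) {Γ : Subgroup (Module.End F V)ˣ} (hΓ : SympType r ω Γ)
    {g : (Module.End F V)ˣ} (hg : g ∈ Subgroup.normalizer (Γ : Set (Module.End F V)ˣ))
    (hns : ¬ IsScalar (g : Module.End F V)) (c : F) :
    2 * r * finrank F (Module.End.eigenspace (g : Module.End F V) c) ≤ (r + 1) * finrank F V :=
  Cfsg.Agent.Helper43.EB.L4.two_translate_bound hr hω hΓ hg hns c

/-- (L5) elements of odd prime order `p ≠ r` -/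
theorem coprime_bound [FiniteDimensional F V] {r : ℕ} (hr : r.Prime) {ω : F}
    (hω : IsPrimitiveRoot ω r) {Γ : Subgroup (Module.End F V)ˣ} (hΓ : SympType r ω Γ)
    {g : (Module.End F V)ˣ} (hg : g ∈ Subgroup.normalizer (Γ : Set (Module.End F V)ˣ))
    (hns : ¬ IsScalar (g : Module.End F V)) {p : ℕ} (hp : p.Prime) (hp2 : p ≠ 2) (hpr : p ≠ r)
    (hgp : g ^ p = 1) (c : F) :
    2 * finrank F (Module.End.eigenspace (g : Module.End F V) c) ≤ finrank F V :=
  Cfsg.Agent.Helper43.EB.L5.coprime_bound hr hω hΓ hg hns hp hp2 hpr hgp c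

/-- (L8a) if some eigenspace of `g` has dimension more than `dim V / 2` and `g ^ r = 1`, then `g`
commutes with a non-scalar `z ∈ Γ` with `z ^ r = 1` -/
theorem exists_central_elt [FiniteDimensional F V] {r : ℕ} (hr : r.Prime) {ω : F}
    (hω : IsPrimitiveRoot ω r) {Γ : Subgroup (Module.End F V)ˣ} (hΓ : SympType r ω Γ)
    (hP : HasPow r Γ)
    {g : (Module.End F V)ˣ} (hg : g ∈ Subgroup.normalizer (Γ : Set (Module.End F V)ˣ))
    (hns : ¬ IsScalar (g : Module.End F V)) (hgr : g ^ r = 1) (c : F)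
    (hlt : finrank F V < 2 * finrank F (Module.End.eigenspace (g : Module.End F V) c)) :
    ∃ z ∈ Γ, z ^ r = 1 ∧ ¬ IsScalar (z : Module.End F V) ∧ z * g = g * z :=
  Cfsg.Agent.Helper82.EBL8aCore.exists_central_elt_core hΓ hP hg hns hgr c hlt
    (fun x => finrank_inter_translate g x c)
    (fun x u hu => by
      have h := fix_inter_translate g x c 1 hu
      rwa [pow_one] at h)
    (fun Z hZc hcomm hpow φ hφZ hφr y hy => exists_fixed_mod Z hr hZc hcomm hpow φ hφZ hφr y hy)

end Cfsg.Agent.Helper43.EB
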