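import Mathlib
import Cfsg.Prelude.Def_GeometricClasses
import Cfsg.Agent.Helper43.EB.Defs
import Cfsg.Agent.Helper82.EBB1
import Cfsg.Agent.Helper53.EBB2
import Cfsg.Agent.Helper75.EBB3
import Cfsg.Agent.Helper53.EBB6

/-! Leaves of S5877, concrete part: translation of the hypotheses of the statement into the
abstract setting (one-line references to the pieces proved by the team). -/

set_option autoImplicit false

namespace Cfsg.Agent.Helper43.EB

open Module

variable {F : Type*} [Field F] {n : ℕ}

/-- the image in the units of `End (Fin n → F)` of the product of `R` with the scalars -/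
def concGroup (R : Subgroup (Matrix.GeneralLinearGroup (Fin n) F)) :
    Subgroup (Module.End F (Fin n → F))ˣ :=
  (R ⊔ Cfsg.Geo.scalars (Fin n) F).map
    (Matrix.GeneralLinearGroup.toLin (n := Fin n) (R := F)).toMonoidHom

/-- (B1) the hypotheses of S5877 give a primitive `r`-th root of unity and a group of symplectic type -/
theorem exists_sympType {r : ℕ} (R : Subgroup (Matrix.GeneralLinearGroup (Fin n) F)) (hr : r.Prime)
    (hZ : Nat.card (Subgroup.center R) = r) (hext : commutator R = Subgroup.center R)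
    (hirr : Cfsg.Geo.ActsAbsolutelyIrreducibly (Cfsg.Geo.matrixSet R)) :
    ∃ ω : F, IsPrimitiveRoot ω r ∧ SympType r ω (concGroup R) :=
  Cfsg.Agent.Helper82.EBB1.exists_sympType R hr hZ hext hirr

/-- (B2) exponent `r` gives `HasPow` -/
theorem hasPow_concGroup {r : ℕ} (R : Subgroup (Matrix.GeneralLinearGroup (Fin n) F))
    (hexp : Monoid.exponent R = r) : HasPow r (concGroup R) :=
  Cfsg.Agent.Helper53.EBB2.hasPow_concGroup R hexp

/-- (B3) the normaliser condition -/
theorem toLin_mem_normalizer (R : Subgroup (Matrix.GeneralLinearGroup (Fin n) F))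
    {g : Matrix.GeneralLinearGroup (Fin n) F}
    (hg : g ∈ Cfsg.Geo.subgroupNormalizer (R ⊔ Cfsg.Geo.scalars (Fin n) F)) :
    Matrix.GeneralLinearGroup.toLin g ∈
      Subgroup.normalizer ((concGroup R : Subgroup (Module.End F (Fin n → F))ˣ) : Set (Module.End F (Fin n → F))ˣ) :=
  Cfsg.Agent.Helper75.EBB3.toLin_mem_normalizer R hg

/-- (B4) non-scalar -/
theorem not_isScalar_toLin {g : Matrix.GeneralLinearGroup (Fin n) F}
    (hns : g ∉ Cfsg.Geo.scalars (Fin n) F) :
    ¬ IsScalar ((Matrix.GeneralLinearGroup.toLin g : (Module.End F (Fin n → F))ˣ) : Module.End F (Fin n → F)) :=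
  Cfsg.Agent.Helper75.EBB3.not_isScalar_toLin hns

/-- (B5) the underlying endomorphism -/
theorem toLin_val (g : Matrix.GeneralLinearGroup (Fin n) F) :
    ((Matrix.GeneralLinearGroup.toLin g : (Module.End F (Fin n → F))ˣ) : Module.End F (Fin n → F)) =
      Matrix.toLin' (g : Matrix (Fin n) (Fin n) F) :=
  Cfsg.Agent.Helper75.EBB3.toLin_val g

/-- (B6) `r` divides `n` -/
theorem prime_dvd_dim {r : ℕ} (R : Subgroup (Matrix.GeneralLinearGroup (Fin n) F)) (hr : r.Prime)
    (hZ : Nat.card (Subgroup.center R) = r) (hext : commutator R = Subgroup.center R)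
    (hirr : Cfsg.Geo.ActsAbsolutelyIrreducibly (Cfsg.Geo.matrixSet R)) : r ∣ n :=
  Cfsg.Agent.Helper53.EBB6.prime_dvd_dim R hr hZ hext hirr

/-- (B7) an `r`-group of exponent `4` has `r = 2` -/
theorem eq_two_of_exponent_four {r : ℕ} (R : Subgroup (Matrix.GeneralLinearGroup (Fin n) F)) (hr : r.Prime)
    (hR : IsPGroup r R) (hexp : Monoid.exponent R = 4) : r = 2 :=
  Cfsg.Agent.Helper53.EBB6.eq_two_of_exponent_four R hr hR hexp

end Cfsg.Agent.Helper43.EB
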