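import Mathlib
import Cfsg.Agent.Helper43.EB.Leaves
import Cfsg.Agent.Helper43.EB.LeavesC
import Cfsg.Agent.Helper43.EB.Lay2
import Cfsg.Agent.Helper43.EB.Block

/-! Assembly of S5877. -/

set_option autoImplicit false

namespace Cfsg.Agent.Helper43.EB

open Module

universe u v

/-- elements of order `r ≥ 5` normalising `Γ`: induction on the dimension -/
theorem equal_bound_aux {F : Type u} [Field F] {r : ℕ} (hr : r.Prime) (h5 : 5 ≤ r) {ω : F}
    (hω : IsPrimitiveRoot ω r) :
    ∀ (N : ℕ) (V : Type v) [AddCommGroup V] [Module F V] [FiniteDimensional F V],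
      finrank F V = N → ∀ (Γ : Subgroup (Module.End F V)ˣ), SympType r ω Γ → HasPow r Γ →
      ∀ (g : (Module.End F V)ˣ), g ∈ Subgroup.normalizer (Γ : Set (Module.End F V)ˣ) →
      ¬ IsScalar (g : Module.End F V) → g ^ r = 1 → ∀ c : F,
      2 * finrank F (Module.End.eigenspace (g : Module.End F V) c) ≤ finrank F V := by
  intro N
  induction N using Nat.strong_induction_on with
  | _ N ih =>
    intro V _ _ _ hN Γ hΓ hP g hg hns hgr c
    by_contra hlt
    rw [not_le] at hlt
    obtain ⟨z, hzΓ, hzr, hzns, hzg⟩ := exists_central_elt hr hω hΓ hP hg hns hgr c hlt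
    have hsum := finrank_eq_sum hr hω hzr hzg c
    have hres := fun j => sympType_res hr hω hΓ hzΓ hzr hzns j
    have hst := fun j => stable_of_commute hzg (ω ^ j)
    have hle := Submodule.finrank_le (Module.End.eigenspace (g : Module.End F V) c)
    have hVpos : 0 < finrank F V := by omega
    by_cases hall : ∀ j ∈ Finset.range r, ¬ ∃ a : F,
        ∀ v ∈ Module.End.eigenspace (z : Module.End F V) (ω ^ j), (g : Module.End F V) v = a • v
    · have key : ∀ j ∈ Finset.range r,
          2 * finrank F ↥(Module.End.eigenspace (g : Module.End F V) c ⊓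
            Module.End.eigenspace (z : Module.End F V) (ω ^ j)) ≤
            finrank F (Module.End.eigenspace (z : Module.End F V) (ω ^ j)) := by
        intro j hj
        have h1 := (hres j).2
        have hlt' : finrank F (Module.End.eigenspace (z : Module.End F V) (ω ^ j)) < N := by
          have h2 : 2 ≤ r := hr.two_le
          nlinarith
        have h3 := ih _ hlt' ↥(Module.End.eigenspace (z : Module.End F V) (ω ^ j)) rfl
          (resGroup Γ _) (hres j).1 (hasPow_res hP _)
          (resUnit _ g (hst j).1 (hst j).2)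
          (resUnit_mem_normalizer hg _ (hst j).1 (hst j).2)
          (by rw [isScalar_resUnit_iff]; exact hall j hj)
          (resUnit_pow g _ (hst j).1 (hst j).2 r hgr) c
        rw [finrank_eigenspace_resUnit] at h3
        exact h3
      have h4 : r * ∑ j ∈ Finset.range r,
          finrank F (Module.End.eigenspace (z : Module.End F V) (ω ^ j)) = r * finrank F V := by
        rw [Finset.mul_sum]
        rw [Finset.sum_congr rfl (fun j _ => (hres j).2)]
        simp
      have h5' : ∑ j ∈ Finset.range r,
          finrank F (Module.End.eigenspace (z : Module.End F V) (ω ^ j)) = finrank F V :=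
        Nat.eq_of_mul_eq_mul_left hr.pos h4
      have h6 : 2 * finrank F (Module.End.eigenspace (g : Module.End F V) c) ≤ finrank F V := by
        rw [hsum, Finset.mul_sum, ← h5']
        exact Finset.sum_le_sum key
      omega
    · push Not at hall
      obtain ⟨j₀, -, a, ha⟩ := hall
      have := scalar_block_bound hr h5 hω hΓ hg hns hgr hzΓ hzr hzns hzg j₀ a ha c
      omega

theorem equal_bound {F : Type u} [Field F] {V : Type v} [AddCommGroup V] [Module F V]
    [FiniteDimensional F V] {r : ℕ} (hr : r.Prime) (h5 : 5 ≤ r) {ω : F}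
    (hω : IsPrimitiveRoot ω r) {Γ : Subgroup (Module.End F V)ˣ} (hΓ : SympType r ω Γ)
    (hP : HasPow r Γ) {g : (Module.End F V)ˣ}
    (hg : g ∈ Subgroup.normalizer (Γ : Set (Module.End F V)ˣ))
    (hns : ¬ IsScalar (g : Module.End F V)) (hgr : g ^ r = 1) (c : F) :
    2 * finrank F (Module.End.eigenspace (g : Module.End F V) c) ≤ finrank F V :=
  equal_bound_aux hr h5 hω _ V rfl Γ hΓ hP g hg hns hgr c

/-- the statement of S5877 -/
theorem main {F : Type u} [Field F] {n r ϖ : ℕ} (R : Subgroup (Matrix.GeneralLinearGroup (Fin n) F))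
    (hr : r.Prime) (hR : IsPGroup r R) (hZ : Nat.card (Subgroup.center R) = r)
    (hext : commutator R = Subgroup.center R)
    (hexp : Monoid.exponent R = r ∨ Monoid.exponent R = 4)
    (hirr : Cfsg.Geo.ActsAbsolutelyIrreducibly (Cfsg.Geo.matrixSet R))
    (g : Matrix.GeneralLinearGroup (Fin n) F)
    (hg : g ∈ Cfsg.Geo.subgroupNormalizer (R ⊔ Cfsg.Geo.scalars (Fin n) F)) (hϖ : ϖ.Prime)
    (hord : orderOf g = ϖ) (hns : g ∉ Cfsg.Geo.scalars (Fin n) F) (c : F) :
    (ϖ = 2 → 4 * Module.finrank F (Module.End.eigenspace (Matrix.toLin' (g : Matrix (Fin n) (Fin n) F)) c) ≤ 3 * n) ∧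
    (ϖ = 3 → 3 * Module.finrank F (Module.End.eigenspace (Matrix.toLin' (g : Matrix (Fin n) (Fin n) F)) c) ≤ 2 * n) ∧
    (3 < ϖ → 2 * Module.finrank F (Module.End.eigenspace (Matrix.toLin' (g : Matrix (Fin n) (Fin n) F)) c) ≤ n) ∧
    (ϖ = 3 → ¬ 3 ∣ n → 2 * Module.finrank F (Module.End.eigenspace (Matrix.toLin' (g : Matrix (Fin n) (Fin n) F)) c) ≤ n) := by
  obtain ⟨ω, hω, hΓ⟩ := exists_sympType R hr hZ hext hirr
  have hg' := toLin_mem_normalizer R hg
  have hns' := not_isScalar_toLin hns
  have hdvd := prime_dvd_dim R hr hZ hext hirr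
  have hn : finrank F (Fin n → F) = n := by simp
  have hpow : (Matrix.GeneralLinearGroup.toLin g) ^ ϖ = 1 := by
    rw [← map_pow, ← hord, pow_orderOf_eq_one, map_one]
  rw [← toLin_val]
  set w := finrank F (Module.End.eigenspace
    ((Matrix.GeneralLinearGroup.toLin g : (Module.End F (Fin n → F))ˣ) : Module.End F (Fin n → F)) c) with hw
  have hT3 := two_translate_bound hr hω hΓ hg' hns' c
  rw [hn, ← hw] at hT3
  have hT4 : ϖ ≠ 2 → ϖ ≠ r → 2 * w ≤ n := by
    intro h2 hne
    have := coprime_bound hr hω hΓ hg' hns' hϖ h2 hne hpow c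
    rwa [hn] at this
  have hr2 := hr.two_le
  refine ⟨?_, ?_, ?_, ?_⟩
  · intro _
    nlinarith
  · intro h3
    by_cases hne : ϖ = r
    · have : r = 3 := by omega
      subst this
      omega
    · have := hT4 (by omega) hne
      omega
  · intro h3
    by_cases hne : ϖ = r
    · have hr5 : 5 ≤ r := by
        rcases Nat.lt_or_ge r 5 with h | h
        · have : r = 4 := by omega
          subst this
          exact absurd hr (by norm_num)
        · exact h
      have hexp' : Monoid.exponent R = r := by
        rcases hexp with h | h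
        · exact h
        · have := eq_two_of_exponent_four R hr hR h
          omega
      have := equal_bound hr hr5 hω hΓ (hasPow_concGroup R hexp') hg' hns' (hne ▸ hpow) c
      rwa [hn] at this
    · exact hT4 (by omega) hne
  · intro h3 hn3
    have hne : ϖ ≠ r := by
      intro h
      apply hn3
      rw [← h3, h]
      exact hdvd
    exact hT4 (by omega) hne

end Cfsg.Agent.Helper43.EB
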